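import Mathlib.RingTheory.GradedAlgebra.Basic
import Mathlib.RingTheory.GradedAlgebra.Homogeneous.Ideal
import Mathlib.Algebra.Module.GradedModule
import Mathlib.Algebra.Module.Projective
import Mathlib.LinearAlgebra.StdBasis
import Mathlib.RingTheory.Nakayama
import Mathlib.Tactic.LinearCombination
import Mathlib.RingTheory.Finiteness.Basic

/-!
# Finitely generated graded projectives over connected graded algebras are graded free
-/

universe u v

namespace GrothLib.GrNakayama

open DirectSum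

variable {R : Type u} [CommRing R] {σ : Type*} [SetLike σ R] [AddSubmonoidClass σ R] (𝒜 : ℤ → σ) [GradedRing 𝒜]
  {M : Type v} [AddCommGroup M] [Module R M] {τ : Type*} [SetLike τ M] [AddSubmonoidClass τ M] (ℳ : ℤ → τ)
  [Decomposition ℳ]

/-- The component of degree `g`. -/
noncomputable def cp (g : ℤ) : M →+ M where
  toFun x := (decompose ℳ x g : M)
  map_zero' := by simp
  map_add' x y := by simp

theorem cp_same {g : ℤ} {x : M} (h : x ∈ ℳ g) : cp ℳ g x = x := decompose_of_mem_same ℳ h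

theorem cp_ne {g h : ℤ} {x : M} (hx : x ∈ ℳ h) (hne : h ≠ g) : cp ℳ g x = 0 := decompose_of_mem_ne ℳ hx hne

theorem cp_mem (g : ℤ) (x : M) : cp ℳ g x ∈ ℳ g := (decompose ℳ x g).2

theorem exists_sum_cp (x : M) : ∃ S : Finset ℤ, x = ∑ g ∈ S, cp ℳ g x := by
  classical
  exact ⟨_, (sum_support_decompose ℳ x).symm⟩

variable [SetLike.GradedSMul 𝒜 ℳ]

omit [GradedRing 𝒜] in
theorem smul_mem'' {i h : ℤ} {r : R} (hr : r ∈ 𝒜 i) {y : M} (hy : y ∈ ℳ h) : r • y ∈ ℳ (i + h) :=
  SetLike.GradedSMul.smul_mem hr hy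

theorem cp_smul (r : R) {h : ℤ} {y : M} (hy : y ∈ ℳ h) (g : ℤ) :
    cp ℳ g (r • y) = cp 𝒜 (g - h) r • y := by
  induction r using DirectSum.Decomposition.inductionOn 𝒜 with
  | zero => simp
  | homogeneous m =>
    rename_i i
    rcases eq_or_ne i (g - h) with rfl | hne
    · rw [cp_same 𝒜 m.2, cp_same ℳ]
      simpa using smul_mem'' 𝒜 ℳ m.2 hy
    · rw [cp_ne 𝒜 m.2 hne, zero_smul, cp_ne ℳ (smul_mem'' 𝒜 ℳ m.2 hy)]
      exact fun e => hne (by omega)
  | add a b ha hb => rw [add_smul, map_add, map_add, ha, hb, add_smul]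

omit [SetLike.GradedSMul 𝒜 ℳ] in
/-- Nakayama for a single element. -/
theorem eq_zero_of_eq_mul (hneg : ∀ i : ℤ, i < 0 → ∀ x ∈ 𝒜 i, x = 0) {p x : R} (hp : cp 𝒜 0 p = 0)
    (hx : x = p * x) : x = 0 := by
  have key : ∀ N : ℕ, ∀ g : ℤ, g < N → cp 𝒜 g x = 0 := by
    intro N
    induction N with
    | zero => exact fun g hg => hneg g (by simpa using hg) _ (cp_mem 𝒜 g x)
    | succ N ih =>
      intro g hg
      obtain ⟨S, hS⟩ := exists_sum_cp 𝒜 x
      rw [hx, hS, Finset.mul_sum, map_sum]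
      refine Finset.sum_eq_zero fun h _ => ?_
      rw [← smul_eq_mul, cp_smul 𝒜 𝒜 p (cp_mem 𝒜 h x) g, smul_eq_mul]
      rcases lt_or_ge h N with hh | hh
      · rw [ih h hh, mul_zero]
      · rcases eq_or_ne (g - h) 0 with h0 | h0
        · rw [h0, hp, zero_mul]
        · rw [hneg (g - h) (by omega) _ (cp_mem 𝒜 (g - h) p), zero_mul]
  obtain ⟨S, hS⟩ := exists_sum_cp 𝒜 x
  rw [hS]
  exact Finset.sum_eq_zero fun g _ => key (g.toNat + 1) g (by omega)

variable [Module.Finite R M] [Module.Projective R M]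

theorem exists_homogeneous_basis (hneg : ∀ i : ℤ, i < 0 → ∀ x ∈ 𝒜 i, x = 0)
    (hunit : ∀ x ∈ 𝒜 0, x ≠ 0 → IsUnit x) :
    ∃ (n : ℕ) (b : Module.Basis (Fin n) R M), ∀ i, SetLike.IsHomogeneousElem ℳ (b i) := by
  classical
  -- homogeneous generators of minimal cardinality
  have hex : ∃ (n : ℕ) (g : Fin n → M), (∀ i, SetLike.IsHomogeneousElem ℳ (g i)) ∧
      Submodule.span R (Set.range g) = ⊤ := by
    obtain ⟨m, s, hs⟩ := Module.Finite.exists_fin (R := R) (M := M)
    choose S hS using fun i => exists_sum_cp ℳ (s i)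
    let T : Finset M := Finset.univ.biUnion fun i => (S i).image fun h => cp ℳ h (s i)
    refine ⟨T.card, fun j => (T.equivFin.symm j : M), fun j => ?_, ?_⟩
    · obtain ⟨i, -, hm⟩ := Finset.mem_biUnion.1 (T.equivFin.symm j).2
      obtain ⟨h, -, e⟩ := Finset.mem_image.1 hm
      refine ⟨h, ?_⟩
      show (T.equivFin.symm j : M) ∈ ℳ h
      rw [← e]
      exact cp_mem ℳ h (s i)
    · rw [eq_top_iff, ← hs, Submodule.span_le]
      rintro - ⟨i, rfl⟩
      rw [hS i]
      refine Submodule.sum_mem _ fun h hh => Submodule.subset_span ⟨T.equivFin ⟨cp ℳ h (s i), ?_⟩, by simp⟩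
      exact Finset.mem_biUnion.2 ⟨i, Finset.mem_univ _, Finset.mem_image_of_mem _ hh⟩
  obtain ⟨n, ⟨g, hg, hspan⟩, hmin⟩ : ∃ n, (∃ g : Fin n → M, (∀ i, SetLike.IsHomogeneousElem ℳ (g i)) ∧
      Submodule.span R (Set.range g) = ⊤) ∧ ∀ m < n, ¬ ∃ g : Fin m → M, (∀ i, SetLike.IsHomogeneousElem ℳ (g i)) ∧
      Submodule.span R (Set.range g) = ⊤ :=
    ⟨Nat.find hex, Nat.find_spec hex, fun m => Nat.find_min hex⟩
  choose d hd using hg
  -- relations lie in the irrelevant ideal
  have hrel : ∀ r : Fin n → R, ∑ i, r i • g i = 0 → ∀ i, cp 𝒜 0 (r i) = 0 := by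
    intro r hr i
    by_contra h0
    obtain ⟨u, hu⟩ := hunit _ (cp_mem 𝒜 0 (r i)) h0
    have h1 : ∑ j, cp 𝒜 (d i - d j) (r j) • g j = 0 := by
      have := congrArg (cp ℳ (d i)) hr
      rw [map_zero, map_sum] at this
      rw [← this]
      exact Finset.sum_congr rfl fun j _ => (cp_smul 𝒜 ℳ (r j) (hd j) (d i)).symm
    rw [← Finset.add_sum_erase _ _ (Finset.mem_univ i), sub_self, ← hu] at h1
    have hgi : g i ∈ Submodule.span R (g '' {i}ᶜ) := by
      have h2 : g i = (↑u⁻¹ : R) • ((u : R) • g i) := by rw [smul_smul, Units.inv_mul, one_smul]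
      rw [h2, eq_neg_of_add_eq_zero_left h1]
      refine Submodule.smul_mem _ _ (neg_mem (Submodule.sum_mem _ fun j hj => Submodule.smul_mem _ _ ?_))
      exact Submodule.subset_span ⟨j, (Finset.mem_erase.1 hj).1, rfl⟩
    obtain ⟨m, hm⟩ : ∃ m, n = m + 1 := ⟨n - 1, by have := i.pos; omega⟩
    let g' : Fin m → M := fun j => g (Fin.cast hm.symm ((Fin.cast hm i).succAbove j))
    refine hmin m (by omega) ⟨g', fun j => ⟨_, hd _⟩, ?_⟩
    rw [eq_top_iff, ← hspan, Submodule.span_le]
    have hle : Submodule.span R (g '' {i}ᶜ) ≤ Submodule.span R (Set.range g') := by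
      refine Submodule.span_mono ?_
      rintro - ⟨j, hj, rfl⟩
      obtain ⟨j', hj'⟩ := Fin.exists_succAbove_eq (x := Fin.cast hm j) (y := Fin.cast hm i)
        (fun e => hj (Fin.ext (congrArg Fin.val e :)))
      refine ⟨j', ?_⟩
      show g (Fin.cast hm.symm _) = g j
      rw [hj']
      exact congrArg g (Fin.ext rfl)
    rintro - ⟨j, rfl⟩
    by_cases hji : j = i
    · subst hji; exact hle hgi
    · exact hle (Submodule.subset_span ⟨j, hji, rfl⟩)
  -- split the presentation
  let π : (Fin n → R) →ₗ[R] M := Fintype.linearCombination R g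
  have hπ : Function.Surjective π := by
    rw [← LinearMap.range_eq_top, Fintype.range_linearCombination, hspan]
  obtain ⟨s, hs⟩ := Module.projective_lifting_property π LinearMap.id hπ
  let q : (Fin n → R) →ₗ[R] (Fin n → R) := LinearMap.id - s ∘ₗ π
  have hq : ∀ x, π (q x) = 0 := fun x => by
    have := LinearMap.congr_fun hs (π x)
    simp only [LinearMap.comp_apply, LinearMap.id_apply] at this
    simp [q, this]
  let I : Ideal R :=
    { carrier := {r | cp 𝒜 0 r = 0}
      add_mem' := fun {a b} ha hb => by simp only [Set.mem_ofPred_eq, map_add] at *; rw [ha, hb, add_zero]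
      zero_mem' := map_zero _
      smul_mem' := by
        intro c r hr
        obtain ⟨S, hS⟩ := exists_sum_cp 𝒜 r
        change cp 𝒜 0 (c * r) = 0
        rw [hS, Finset.mul_sum, map_sum]
        refine Finset.sum_eq_zero fun h _ => ?_
        rw [← smul_eq_mul, cp_smul 𝒜 𝒜 c (cp_mem 𝒜 h r) 0, smul_eq_mul]
        rcases eq_or_ne h 0 with rfl | h0
        · rw [show cp 𝒜 0 r = 0 from hr, mul_zero]
        · rcases lt_or_gt_of_ne h0 with hlt | hgt
          · rw [hneg h hlt _ (cp_mem 𝒜 h r), mul_zero]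
          · rw [hneg (0 - h) (by omega) _ (cp_mem 𝒜 (0 - h) c), zero_mul] }
  have hle : LinearMap.range q ≤ I • LinearMap.range q := by
    rintro - ⟨x, rfl⟩
    have hqq : q x = ∑ i, q x i • q (Pi.single i 1) := by
      have h1 : q (q x) = q x := by
        change q x - s (π (q x)) = q x
        rw [hq, map_zero, sub_zero]
      conv_lhs => rw [← h1, pi_eq_sum_univ (q x), map_sum]
      refine Finset.sum_congr rfl fun i _ => ?_
      rw [map_smul]; congr 2
      funext j; simp [Pi.single_apply, eq_comm]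
    rw [hqq]
    refine Submodule.sum_mem _ fun i _ => Submodule.smul_mem_smul ?_ (LinearMap.mem_range_self q _)
    exact hrel (q x) (by have := hq x; rwa [Fintype.linearCombination_apply] at this) i
  obtain ⟨r, hrI, hr0⟩ := Submodule.exists_sub_one_mem_and_smul_eq_zero_of_fg_of_le_smul I (LinearMap.range q)
    (by rw [LinearMap.range_eq_map]; exact (Module.finite_def.1 inferInstance).map q) hle
  have hinj : Function.Injective π := by
    rw [injective_iff_map_eq_zero]
    intro x hx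
    have hqx : q x = x := by simp [q, hx]
    funext i
    have h0 := congrFun (hr0 (q x) (LinearMap.mem_range_self q x)) i
    rw [hqx] at h0
    refine eq_zero_of_eq_mul 𝒜 hneg (p := -(r - 1)) (by rw [map_neg, show cp 𝒜 0 (r - 1) = 0 from hrI, neg_zero]) ?_
    simp only [Pi.smul_apply, smul_eq_mul, Pi.zero_apply] at h0
    linear_combination h0
  let e := LinearEquiv.ofBijective π ⟨hinj, hπ⟩
  refine ⟨n, (Pi.basisFun R (Fin n)).map e, fun i => ⟨d i, ?_⟩⟩
  have : e (Pi.basisFun R (Fin n) i) = g i := by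
    simp [e, π, Fintype.linearCombination_apply, Pi.single_apply]
  rw [Module.Basis.map_apply, this]
  exact hd i

end GrothLib.GrNakayama
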